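/-
An element of order three of the model is moved by a two-element modulo the centre.
-/
import Cfsg.Agent.CoThreeM.Frame

set_option autoImplicit false
set_option maxRecDepth 10000

namespace Cfsg.Lib.CoThreeM.End

open Cfsg.Lib.M12Cent

theorem three_moved : ∀ m : M, m * (m * m) = 1 → m ≠ 1 → ∃ l : M,
    l * m * l⁻¹ * m⁻¹ ≠ 1 ∧ l * m * l⁻¹ * m⁻¹ ≠ tau ∧
      (l * m * l⁻¹ * m⁻¹) * (l * m * l⁻¹ * m⁻¹) * ((l * m * l⁻¹ * m⁻¹) * (l * m * l⁻¹ * m⁻¹)) = 1 := by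
  decide +kernel

end Cfsg.Lib.CoThreeM.End
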