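/-
The quotient of the centraliser of `z` by `⟨z⟩`, the images of the codes, and inversion of odd subgroups by the
conjugates of `e`.
-/
import Cfsg.Agent.CoThreeM.Rad
import Cfsg.Agent.CoThreeM.End.Fact
import Cfsg.Agent.Components.Cores
import Cfsg.Prelude.Def_CaseTheorems

set_option autoImplicit false
set_option linter.unusedSectionVars false
set_option linter.style.haveILetI false
set_option maxRecDepth 10000

namespace Cfsg.Lib.CoThreeM.End

open Subgroup Cfsg.Lib.M12Cent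

universe u v

/-- An involution fixing only the identity of a finite subgroup inverts it. -/
theorem inverts {Q : Type*} [Group Q] (O : Subgroup Q) [Finite O] {a : Q} (hN : ∀ x ∈ O, a * x * a⁻¹ ∈ O)
    (haa : a * a = 1) (hC : ∀ x ∈ O, a * x = x * a → x = 1) : ∀ y ∈ O, a * y * a⁻¹ = y⁻¹ := by
  intro y hy
  have hainv : a⁻¹ = a := inv_eq_of_mul_eq_one_right haa
  let f : O → O := fun x => ⟨(x : Q)⁻¹ * (a * x * a⁻¹), mul_mem (inv_mem x.2) (hN _ x.2)⟩
  have hf : Function.Injective f := fun x x' h => by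
    have h' : (x : Q)⁻¹ * (a * x * a⁻¹) = (x' : Q)⁻¹ * (a * x' * a⁻¹) := congrArg Subtype.val h
    have h1 : (x' : Q) * (x : Q)⁻¹ = 1 := by
      refine hC _ (mul_mem x'.2 (inv_mem x.2)) ?_
      refine (mul_inv_eq_iff_eq_mul.1 ?_)
      calc a * ((x' : Q) * (x : Q)⁻¹) * a⁻¹ = (a * x' * a⁻¹) * (a * x * a⁻¹)⁻¹ := by group
        _ = (x' : Q) * ((x' : Q)⁻¹ * (a * x' * a⁻¹)) * (a * x * a⁻¹)⁻¹ := by group
        _ = (x' : Q) * (x : Q)⁻¹ := by rw [← h']; group
    exact Subtype.ext (mul_inv_eq_one.1 h1).symm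
  obtain ⟨x, hx⟩ := (Finite.injective_iff_surjective.1 hf) ⟨y, hy⟩
  have hxy : (x : Q)⁻¹ * (a * x * a⁻¹) = y := congrArg Subtype.val hx
  rw [← hxy, hainv]
  calc a * ((x : Q)⁻¹ * (a * x * a)) * a = a * (x : Q)⁻¹ * a * x * (a * a) := by group
    _ = a⁻¹ * (x : Q)⁻¹ * a⁻¹ * x := by rw [haa, mul_one, hainv]
    _ = _ := by rw [hainv]; nth_rewrite 1 [← hainv]; nth_rewrite 2 [← hainv]; group

variable {G : Type u} [Group G] [Finite G]

/-- a quotient of the centraliser of `z` by its subgroup of order two -/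
structure KQuot (S : Setup G) (Q : Type v) [Group Q] where
  /-- the map -/
  p : ↥S.K →* Q
  surj : Function.Surjective p
  ker : ∀ x : ↥S.K, p x = 1 ↔ (x : G) = 1 ∨ (x : G) = S.z

theorem mem_K {S : Setup G} {x : G} : x ∈ S.K ↔ x * S.z = S.z * x := mem_centralizer_singleton_iff

theorem ψ_mem_K (S : Setup G) (m : M) : S.ψ m ∈ S.K := mem_K.2 (S.z_ψ m).symm

theorem z_mem_K (S : Setup G) : S.z ∈ S.K := mem_K.2 rfl

namespace KQuot

variable {S : Setup G} {Q : Type v} [Group Q] [Finite Q] (R : KQuot S Q)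

/-- the image of an element -/
noncomputable def im (x : G) : Q :=
  haveI := Classical.propDecidable (x ∈ S.K)
  if h : x ∈ S.K then R.p ⟨x, h⟩ else 1

theorem im_mk {x : G} (h : x ∈ S.K) : R.im x = R.p ⟨x, h⟩ := dif_pos h

theorem im_mul {x y : G} (hx : x ∈ S.K) (hy : y ∈ S.K) : R.im (x * y) = R.im x * R.im y := by
  rw [R.im_mk hx, R.im_mk hy, R.im_mk (mul_mem hx hy), ← map_mul]; rfl

theorem im_inv {x : G} (hx : x ∈ S.K) : R.im x⁻¹ = (R.im x)⁻¹ := by
  rw [R.im_mk hx, R.im_mk (inv_mem hx), ← map_inv]; rfl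

theorem im_eq_one {x : G} (hx : x ∈ S.K) : R.im x = 1 ↔ x = 1 ∨ x = S.z := by
  rw [R.im_mk hx]; exact R.ker _

theorem im_one : R.im 1 = 1 := (R.im_eq_one (one_mem _)).2 (Or.inl rfl)
theorem im_z : R.im S.z = 1 := (R.im_eq_one (z_mem_K S)).2 (Or.inr rfl)

theorem im_pow {x : G} (hx : x ∈ S.K) (n : ℕ) : R.im (x ^ n) = R.im x ^ n := by
  induction n with
  | zero => simp [R.im_one]
  | succ n ih => rw [pow_succ, pow_succ, R.im_mul (pow_mem hx n) hx, ih]

theorem exists_lift (y : Q) : ∃ x ∈ S.K, R.im x = y := by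
  obtain ⟨⟨x, hx⟩, rfl⟩ := R.surj y
  exact ⟨x, hx, R.im_mk hx⟩

theorem exists_odd_lift {y : Q} {d : ℕ} (hd : Odd d) (hy : y ^ d = 1) : ∃ x ∈ S.K, R.im x = y ∧ x ^ d = 1 := by
  obtain ⟨x, hx, rfl⟩ := R.exists_lift y
  rw [← R.im_pow hx] at hy
  rcases (R.im_eq_one (pow_mem hx d)).1 hy with h | h
  · exact ⟨x, hx, rfl, h⟩
  · refine ⟨x * S.z, mul_mem hx (z_mem_K S), by rw [R.im_mul hx (z_mem_K S), R.im_z, mul_one], ?_⟩
    rw [(show Commute x S.z from mem_K.1 hx).mul_pow, h]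
    obtain ⟨j, rfl⟩ := hd
    rw [pow_succ, pow_mul, show S.z ^ 2 = 1 by rw [pow_two, S.zz], one_pow, one_mul, S.zz]

theorem im_injOn_odd {x x' : G} (hx : x ∈ S.K) (hx' : x' ∈ S.K) {d : ℕ} (hd : Odd d) (h1 : x ^ d = 1)
    (h2 : x' ^ d = 1) (h : R.im x = R.im x') : x = x' := by
  have h3 : R.im (x⁻¹ * x') = 1 := by rw [R.im_mul (inv_mem hx) hx', R.im_inv hx, h, inv_mul_cancel]
  rcases (R.im_eq_one (mul_mem (inv_mem hx) hx')).1 h3 with h4 | h4
  · exact inv_mul_eq_one.1 h4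
  · exfalso
    have h5 : x' = x * S.z := by rw [← h4, mul_inv_cancel_left]
    rw [h5, (show Commute x S.z from mem_K.1 hx).mul_pow, h1, one_mul] at h2
    obtain ⟨j, rfl⟩ := hd
    rw [pow_succ, pow_mul, show S.z ^ 2 = 1 by rw [pow_two, S.zz], one_pow, one_mul] at h2
    exact S.z_ne h2

variable {O : Subgroup Q}

theorem eq_one_of_small (hodd : Odd (Nat.card O)) {c : Q} (hc : c ∈ O) {n : ℕ} (h : c ^ 2 ^ n = 1) : c = 1 := by
  have h1 : c ^ Nat.card O = 1 := congrArg Subtype.val (pow_card_eq_one' (x := (⟨c, hc⟩ : O)))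
  have h2 := Nat.dvd_gcd (orderOf_dvd_of_pow_eq_one h) (orderOf_dvd_of_pow_eq_one h1)
  rw [(Nat.Coprime.pow_left n hodd.coprime_two_left).gcd_eq_one, Nat.dvd_one] at h2
  exact orderOf_eq_one_iff.1 h2

theorem cent_e_odd (hodd : Odd (Nat.card O)) (hψ : ∀ m, R.im (S.ψ m) ∈ normalizer (O : Set Q)) {y : Q}
    (hy : y ∈ O) (hye : R.im S.e * y = y * R.im S.e) : y = 1 := by
  have hd := hodd
  set d := Nat.card O
  have hyd : y ^ d = 1 := congrArg Subtype.val (pow_card_eq_one' (x := (⟨y, hy⟩ : O)))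
  obtain ⟨x, hx, rfl, hxd⟩ := R.exists_odd_lift hd hyd
  have heK : S.e ∈ S.K := S.e_mem_K
  have hcx : S.e * x * S.e⁻¹ = x := by
    refine R.im_injOn_odd (mul_mem (mul_mem heK hx) (inv_mem heK)) hx hd ?_ hxd ?_
    · rw [conj_pow, hxd]; group
    · rw [R.im_mul (mul_mem heK hx) (inv_mem heK), R.im_mul heK hx, R.im_inv heK, hye, mul_inv_cancel_right]
  obtain ⟨m, hm⟩ := S.cent_ez (mul_inv_eq_iff_eq_mul.1 hcx).symm (mem_K.1 hx)
  obtain ⟨i, hm⟩ : ∃ i, x = S.E i * S.ψ m := by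
    rcases hm with h | h
    · exact ⟨false, by simp [Setup.E, h]⟩
    · exact ⟨true, h⟩
  have hpow : x ^ d = S.E i * S.ψ (m ^ d) := by
    obtain ⟨j, hj⟩ := hd
    rw [hm, (show Commute (S.E i) (S.ψ m) from S.E_ψ i m).mul_pow, ← map_pow, hj, pow_succ (S.E i), pow_mul (S.E i)]
    rw [show S.E i ^ 2 = 1 by rw [pow_two, S.E_mul, Bool.xor_self]; rfl, one_pow, one_mul]
  rw [hxd] at hpow
  obtain ⟨hi, hmd⟩ := S.Eψ_inj (i := false) (a := 1) (show S.E false * S.ψ 1 = S.E i * S.ψ (m ^ d) by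
    rw [← hpow, map_one, mul_one]; rfl)
  subst hi
  rw [show S.E false = 1 from rfl, one_mul] at hm
  subst hm
  have hm3 : m * (m * m) = 1 := by
    have h2 : orderOf m ∣ 3 := by
      refine (Nat.Coprime.dvd_of_dvd_mul_left (k := orderOf m) (n := 3) (m := 64) ?_ ?_)
      · exact Nat.Coprime.coprime_dvd_left (orderOf_dvd_of_pow_eq_one hmd.symm)
          (show Nat.Coprime d (2 ^ 6) from Nat.Coprime.pow_right 6 hd.coprime_two_right)
      · exact (orderOf_dvd_natCard m).trans (dvd_of_eq card_M)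
    have h3 := orderOf_dvd_iff_pow_eq_one.1 h2
    rw [pow_succ', pow_two] at h3
    exact h3
  by_contra hne
  obtain ⟨l, hc1, hct, hc4⟩ := three_moved m hm3 fun h => hne (by rw [h, map_one, R.im_one])
  set c := l * m * l⁻¹ * m⁻¹ with hc
  have hlK := ψ_mem_K S l
  have hcO : R.im (S.ψ c) ∈ O := by
    rw [hc, map_mul, map_mul, map_mul, map_inv, map_inv, R.im_mul (mul_mem (mul_mem hlK hx) (inv_mem hlK)) (inv_mem hx),
      R.im_mul (mul_mem hlK hx) (inv_mem hlK), R.im_mul hlK hx, R.im_inv hlK, R.im_inv hx]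
    exact mul_mem ((mem_normalizer_iff.1 (hψ l) _).1 hy) (inv_mem hy)
  have h4 : R.im (S.ψ c) ^ 2 ^ 2 = 1 := by
    have hc' : c ^ 2 ^ 2 = 1 := by
      rw [show 2 ^ 2 = 2 * 2 from rfl, pow_mul, pow_two, pow_two]; exact hc4
    rw [← R.im_pow (ψ_mem_K S c), ← map_pow, hc', map_one, R.im_one]
  rcases (R.im_eq_one (ψ_mem_K S c)).1 (eq_one_of_small hodd hcO h4) with h | h
  · exact hc1 (S.ψ_inj (h.trans (map_one S.ψ).symm))
  · exact hct (S.ψ_inj h)

theorem e_inverts (hodd : Odd (Nat.card O)) (hψ : ∀ m, R.im (S.ψ m) ∈ normalizer (O : Set Q))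
    (he : R.im S.e ∈ normalizer (O : Set Q)) {y : Q} (hy : y ∈ O) : R.im S.e * y * (R.im S.e)⁻¹ = y⁻¹ :=
  inverts O (fun x hx => (mem_normalizer_iff.1 he x).1 hx)
    (by rw [← R.im_mul S.e_mem_K S.e_mem_K, S.ee, R.im_one]) (fun _ hx h => R.cent_e_odd hodd hψ hx h) y hy

variable (F : Flip S)

theorem rR_mem (a : Fin 64) : F.rR a ∈ S.K := mem_K.2 (F.rR_z a)

/-- the image of a code -/
noncomputable def code (a : Fin 64) : Q := R.im (F.rR a)

theorem im_RC {a : Fin 64} {x : G} (h : F.RC a x) : R.im x = R.code F a := by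
  obtain ⟨c, rfl⟩ := h
  rw [F.ev_tC, R.im_mul (rR_mem F a) (ψ_mem_K S _)]
  cases c
  · simp [pw, R.im_one, code]
  · simp [pw, code, show R.im (S.ψ tau) = 1 from R.im_z]

theorem code_add (a b : Fin 64) : R.code F a * R.code F b = R.code F (x6 a b) := by
  rw [← R.im_RC F (F.RC_mul (F.RC_self a) (F.RC_self b)), R.im_mul (rR_mem F a) (rR_mem F b)]; rfl

theorem code_inj : Function.Injective (R.code F) := fun a b h => by
  have h1 : R.im (F.rR a)⁻¹ * R.im (F.rR b) = 1 := by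
    rw [R.im_inv (rR_mem F a)]; exact inv_mul_eq_one.2 h
  rw [← R.im_mul (inv_mem (rR_mem F a)) (rR_mem F b)] at h1
  rcases (R.im_eq_one (mul_mem (inv_mem (rR_mem F a)) (rR_mem F b))).1 h1 with h2 | h2
  · exact F.RC_inj (F.RC_self a) (by rw [inv_mul_eq_one.1 h2]; exact F.RC_self b)
  · have h3 := F.RC_mul (F.RC_self a) F.RC_zz
    rw [← h2, mul_inv_cancel_left, (x6_zero a).2] at h3
    exact F.RC_inj h3 (F.RC_self b)

theorem code_zero : R.code F 0 = 1 := by rw [← R.im_RC F F.RC_one, R.im_one]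
theorem code_sq (a : Fin 64) : R.code F a * R.code F a = 1 := by rw [R.code_add, x6_self, R.code_zero]
theorem code_e : R.code F 8 = R.im S.e := (R.im_RC F F.RC_e).symm
theorem code_f : R.code F 16 = R.im F.w := (R.im_RC F F.RC_w).symm

theorem conj_code {k : G} {t : Fin 64 → Fin 64} (h : F.Act k t) (a : Fin 64) :
    R.im k * R.code F a * (R.im k)⁻¹ = R.code F (t a) := by
  have hk : k ∈ S.K := mem_K.2 h.1
  rw [code, ← R.im_inv hk, ← R.im_mul hk (rR_mem F a), ← R.im_mul (mul_mem hk (rR_mem F a)) (inv_mem hk)]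
  exact R.im_RC F (h.2 a)

/-- An odd subgroup normalised by the model, `e` and two suitable elements is trivial. -/
theorem odd_trivial (hodd : Odd (Nat.card O)) (hψ : ∀ m, R.im (S.ψ m) ∈ normalizer (O : Set Q))
    (he : R.im S.e ∈ normalizer (O : Set Q)) {k1 k2 : G} {t1 t2 : Fin 64 → Fin 64} (h1 : F.Act k1 t1)
    (h2 : F.Act k2 t2) (hk1 : R.im k1 ∈ normalizer (O : Set Q)) (hk2 : R.im k2 ∈ normalizer (O : Set Q))
    (heq : x6 8 (t1 8) = t2 8) : O = ⊥ := by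
  have hinv : ∀ {k : G} {t : Fin 64 → Fin 64}, F.Act k t → R.im k ∈ normalizer (O : Set Q) →
      ∀ y ∈ O, R.code F (t 8) * y * (R.code F (t 8))⁻¹ = y⁻¹ := by
    intro k t h hk y hy
    rw [← R.conj_code F h, R.code_e F]
    have hy' : (R.im k)⁻¹ * y * R.im k ∈ O := by
      have := (mem_normalizer_iff.1 (inv_mem hk) y).1 hy
      rwa [inv_inv] at this
    calc R.im k * R.im S.e * (R.im k)⁻¹ * y * (R.im k * R.im S.e * (R.im k)⁻¹)⁻¹
        = R.im k * (R.im S.e * ((R.im k)⁻¹ * y * R.im k) * (R.im S.e)⁻¹) * (R.im k)⁻¹ := by group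
      _ = _ := by rw [R.e_inverts hodd hψ he hy']; group
  refine eq_bot_iff.2 fun y hy => mem_bot.2 ?_
  have ha := hinv h2 hk2 y hy
  rw [← heq, ← R.code_add, R.code_e F] at ha
  have h3 : y⁻¹ = y := by
    rw [← ha]
    calc R.im S.e * R.code F (t1 8) * y * (R.im S.e * R.code F (t1 8))⁻¹
        = R.im S.e * (R.code F (t1 8) * y * (R.code F (t1 8))⁻¹) * (R.im S.e)⁻¹ := by group
      _ = R.im S.e * y⁻¹ * (R.im S.e)⁻¹ := by rw [hinv h1 hk1 y hy]
      _ = y := by rw [R.e_inverts hodd hψ he (inv_mem hy), inv_inv]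
  refine eq_one_of_small hodd hy (n := 1) ?_
  rw [pow_one, pow_two]
  nth_rewrite 1 [← h3]
  exact inv_mul_cancel y

end KQuot

end Cfsg.Lib.CoThreeM.End
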