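/-
An element of order seven normalising an elementary abelian group of order 64 on at most thirteen points centralises it.
-/
import Mathlib

set_option autoImplicit false
set_option linter.unusedSectionVars false
set_option linter.style.haveILetI false

namespace Cfsg.Lib.CoThreeM.End

open Subgroup

universe w

variable {X : Type w} [Fintype X] [DecidableEq X]

/-- A group fixing a set pointwise lives on its complement. -/
theorem card_dvd_of_fix (H : Subgroup (Equiv.Perm X)) (A : Finset X) (hA : ∀ h ∈ H, ∀ a ∈ A, h a = a) :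
    Nat.card H ∣ (Fintype.card X - A.card).factorial := by
  have hpres : ∀ h : H, ∀ y, (h : Equiv.Perm X) y ∈ A ↔ y ∈ A := fun h y => by
    refine ⟨fun hy => ?_, fun hy => by rw [hA h h.2 y hy]; exact hy⟩
    have h1 := (h : Equiv.Perm X).injective (hA h h.2 _ hy)
    rw [h1] at hy
    exact hy
  let f : H →* Equiv.Perm {y : X // y ∉ A} :=
    MonoidHom.mk' (fun h => (h : Equiv.Perm X).subtypePerm fun y => not_congr (hpres h y)) fun a b =>
      Equiv.ext fun y => Subtype.ext rfl
  have hinj : Function.Injective f := fun a b hab => Subtype.ext (Equiv.ext fun y => by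
    by_cases hy : y ∈ A
    · rw [hA a a.2 y hy, hA b b.2 y hy]
    · exact congrArg Subtype.val (DFunLike.congr_fun hab ⟨y, hy⟩))
  refine (Subgroup.card_dvd_of_injective f hinj).trans (dvd_of_eq ?_)
  rw [Nat.card_eq_fintype_card, Fintype.card_perm, Fintype.card_subtype_compl, Fintype.card_coe]

theorem eight_large {o n : ℕ} (ho : 2 ≤ o) (hn : n ≤ 13) (hle : 8 + o ≤ n) (hdvd : o ∣ 8)
    (hst : (8 / o) ∣ (n - (8 + o)).factorial) : False := by
  obtain rfl | rfl : o = 2 ∨ o = 4 := by
    have h1 : o ≤ 5 := by omega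
    interval_cases o <;> omega
  · have h2 := hst.trans (Nat.factorial_dvd_factorial (show n - (8 + 2) ≤ 3 by omega))
    norm_num [Nat.factorial] at h2
  · have h2 := hst.trans (Nat.factorial_dvd_factorial (show n - (8 + 4) ≤ 1 by omega))
    norm_num [Nat.factorial] at h2

/-- No abelian group of order eight fixes eight of at most thirteen points. -/
theorem not_eight (hX : Fintype.card X ≤ 13) (H : Subgroup (Equiv.Perm X)) (hc : ∀ a ∈ H, ∀ b ∈ H, a * b = b * a)
    (h8 : Nat.card H = 8) (A : Finset X) (hA : A.card = 8) (hfix : ∀ h ∈ H, ∀ a ∈ A, h a = a) : False := by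
  classical
  obtain ⟨h0, hh0, y, hy⟩ : ∃ h ∈ H, ∃ y, h y ≠ y := by
    by_contra hcon
    push Not at hcon
    have : H = ⊥ := eq_bot_iff.2 fun h hh => mem_bot.2 (Equiv.ext fun y => hcon h hh y)
    rw [this, card_bot] at h8
    norm_num at h8
  let O : Finset X := Finset.univ.filter fun a => a ∈ MulAction.orbit H y
  have hO : ∀ a, a ∈ O ↔ ∃ h : H, h • y = a := fun a => by simp [O, MulAction.mem_orbit_iff]
  have hyO : y ∈ O := (hO y).2 ⟨1, one_smul _ _⟩
  have hdisj : Disjoint A O := Finset.disjoint_left.2 fun a ha ha' => by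
    obtain ⟨h, hh⟩ := (hO a).1 ha'
    have h1 : (h : Equiv.Perm X) a = a := hfix h h.2 a ha
    have h2 : y = a := (h : Equiv.Perm X).injective (hh.trans h1.symm)
    exact hy (h2 ▸ hfix h0 hh0 a ha)
  have hOc : Nat.card (MulAction.orbit H y) = O.card := by
    rw [Nat.card_eq_fintype_card, ← Fintype.card_coe O]
    exact Fintype.card_congr (Equiv.subtypeEquivRight fun a => by simp [O])
  have hprod : O.card * Nat.card (MulAction.stabilizer H y) = 8 := by
    rw [← hOc, Nat.card_congr (MulAction.orbitEquivQuotientStabilizer H y), ← Subgroup.index_eq_card, mul_comm,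
      Subgroup.card_mul_index, h8]
  have ho : 2 ≤ O.card := Finset.one_lt_card.2 ⟨y, hyO, h0 y, (hO _).2 ⟨⟨h0, hh0⟩, rfl⟩, Ne.symm hy⟩
  have hst : Nat.card (MulAction.stabilizer H y) ∣ (Fintype.card X - (A ∪ O).card).factorial := by
    rw [← Subgroup.card_map_of_injective (f := H.subtype) (subtype_injective _)]
    refine card_dvd_of_fix _ _ fun h hh a ha => ?_
    obtain ⟨⟨x, hxH⟩, hx, rfl⟩ := hh
    rcases Finset.mem_union.1 ha with ha | ha
    · exact hfix x hxH a ha
    · obtain ⟨k, rfl⟩ := (hO a).1 ha
      have hxy : x y = y := MulAction.mem_stabilizer_iff.1 hx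
      show x ((k : Equiv.Perm X) y) = (k : Equiv.Perm X) y
      rw [← Equiv.Perm.mul_apply, hc x hxH k k.2, Equiv.Perm.mul_apply, hxy]
  have hle := Finset.card_le_univ (A ∪ O)
  rw [Finset.card_union_of_disjoint hdisj, hA] at hst hle
  refine eight_large ho hX hle ⟨_, hprod.symm⟩ ?_
  rw [Nat.div_eq_of_eq_mul_right (by omega) hprod.symm]
  exact hst

/-- An element of order seven normalising a group of order 64 centralises it. -/
theorem seven_centralises (hX : Fintype.card X ≤ 13) (U : Subgroup (Equiv.Perm X))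
    (hc : ∀ a ∈ U, ∀ b ∈ U, a * b = b * a) (h64 : Nat.card U = 64)
    {g : Equiv.Perm X} (hg : g ^ 7 = 1) (hN : ∀ u ∈ U, g * u * g⁻¹ ∈ U) : ∀ u ∈ U, g * u = u * g := by
  classical
  have hpowN : ∀ i : ℕ, ∀ u ∈ U, g ^ i * u * (g ^ i)⁻¹ ∈ U := fun i => by
    induction i with
    | zero => intro u hu; simpa using hu
    | succ i ih =>
      intro u hu
      rw [show g ^ (i + 1) * u * (g ^ (i + 1))⁻¹ = g * (g ^ i * u * (g ^ i)⁻¹) * g⁻¹ by rw [pow_succ']; group]
      exact hN _ (ih u hu)
  have key : ∀ x, g x ≠ x → ∀ u ∈ U, u x = x := by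
    intro x hx u0 hu0
    by_contra hux
    let B : Finset X := Finset.univ.filter fun a => a ∈ MulAction.orbit U x
    have hB : ∀ a, a ∈ B ↔ ∃ u ∈ U, u x = a := fun a => by
      simp only [B, Finset.mem_filter, Finset.mem_univ, true_and, MulAction.mem_orbit_iff]
      exact ⟨fun ⟨u, h⟩ => ⟨u, u.2, h⟩, fun ⟨u, hu, h⟩ => ⟨⟨u, hu⟩, h⟩⟩
    have hxB : x ∈ B := (hB x).2 ⟨1, one_mem _, rfl⟩
    have hu0B : u0 x ∈ B := (hB _).2 ⟨u0, hu0, rfl⟩
    -- translates by powers of `g`
    have hmove : ∀ i, ∀ u ∈ U, ∃ u' ∈ U, (g ^ i) (u x) = u' ((g ^ i) x) := fun i u hu =>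
      ⟨g ^ i * u * (g ^ i)⁻¹, hpowN i u hu, by simp [Equiv.Perm.mul_apply]⟩
    have hclosed : ∀ a ∈ B, ∀ u ∈ U, u a ∈ B := fun a ha u hu => by
      obtain ⟨v, hv, rfl⟩ := (hB a).1 ha
      exact (hB _).2 ⟨u * v, mul_mem hu hv, rfl⟩
    have hord : orderOf g = 7 := by
      have hne : g ≠ 1 := fun h => hx (by rw [h]; rfl)
      exact ((Nat.dvd_prime (by norm_num)).1 (orderOf_dvd_of_pow_eq_one hg)).resolve_left fun h =>
        hne (orderOf_eq_one_iff.1 h)
    have hfree : ∀ i : ℕ, ¬ 7 ∣ i → (g ^ i) x ≠ x := fun i hi h => by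
      have h7 : (Function.IsPeriodicPt g 7 x) := by
        show g^[7] x = x
        rw [← Equiv.Perm.coe_pow, hg]; rfl
      have hip : Function.IsPeriodicPt g i x := by
        show g^[i] x = x
        rw [← Equiv.Perm.coe_pow]; exact h
      have := h7.gcd hip
      rw [Nat.Coprime.gcd_eq_one (Nat.prime_seven.coprime_iff_not_dvd.2 hi)] at this
      exact hx this
    by_cases hk : ∃ k : ℕ, ¬ 7 ∣ k ∧ (g ^ k) x ∈ B
    · obtain ⟨k, hk7, hkB⟩ := hk
      have hall : ∀ m : ℕ, (g ^ (k * m)) x ∈ B := fun m => by
        induction m with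
        | zero => simpa using hxB
        | succ m ih =>
          obtain ⟨u, hu, hux⟩ := (hB _).1 ih
          obtain ⟨u', hu', h'⟩ := hmove k u hu
          rw [show k * (m + 1) = k + k * m by ring, pow_add, Equiv.Perm.mul_apply, ← hux, h']
          exact hclosed _ hkB u' hu'
      have h7le : 7 ≤ B.card := by
        have hinj : Function.Injective fun i : Fin 7 => (g ^ (k * i.val)) x := by
          intro i j hij
          by_contra hne
          wlog hlt : i.val < j.val generalizing i j
          · exact this hij.symm (Ne.symm hne) (by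
              rcases Nat.lt_or_ge j.val i.val with h | h
              · exact h
              · exact absurd (Fin.ext (le_antisymm h (not_lt.1 hlt))) hne)
          refine hfree (k * (j.val - i.val)) (fun hd => ?_) ?_
          · rcases (Nat.Prime.dvd_mul Nat.prime_seven).1 hd with h | h
            · exact hk7 h
            · have := Nat.le_of_dvd (by omega) h
              omega
          · refine (g ^ (k * i.val)).injective ?_
            rw [← Equiv.Perm.mul_apply, ← pow_add, ← Nat.mul_add,
              show i.val + (j.val - i.val) = j.val by omega]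
            exact hij.symm
        simpa using Finset.card_le_card_of_injOn (s := (Finset.univ : Finset (Fin 7)))
          (fun i : Fin 7 => (g ^ (k * i.val)) x) (fun i _ => hall i) hinj.injOn
      have hBc : Nat.card (MulAction.orbit U x) = B.card := by
        rw [Nat.card_eq_fintype_card, ← Fintype.card_coe B]
        exact Fintype.card_congr (Equiv.subtypeEquivRight fun a => by simp [B])
      have hprod : B.card * Nat.card (MulAction.stabilizer U x) = 64 := by
        rw [← hBc, Nat.card_congr (MulAction.orbitEquivQuotientStabilizer U x), ← Subgroup.index_eq_card, mul_comm,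
          Subgroup.card_mul_index, h64]
      have hle := (Finset.card_le_univ B).trans hX
      have h8 : B.card = 8 := by
        have hd : B.card ∣ 64 := ⟨_, hprod.symm⟩
        interval_cases h : B.card <;> omega
      rw [h8] at hprod
      refine not_eight hX ((MulAction.stabilizer U x).map U.subtype) ?_ ?_ B h8 ?_
      · rintro _ ⟨a, -, rfl⟩ _ ⟨b, -, rfl⟩
        exact hc a a.2 b b.2
      · rw [Subgroup.card_map_of_injective (subtype_injective _)]; omega
      · rintro _ ⟨a, ha, rfl⟩ b hb
        obtain ⟨v, hv, rfl⟩ := (hB b).1 hb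
        have hax : (a : Equiv.Perm X) x = x := MulAction.mem_stabilizer_iff.1 ha
        show (a : Equiv.Perm X) (v x) = v x
        rw [← Equiv.Perm.mul_apply, hc a a.2 v hv, Equiv.Perm.mul_apply, hax]
    · -- seven disjoint translates of a pair
      push Not at hk
      let f : Fin 7 × Bool → X := fun p => (g ^ p.1.val) (bif p.2 then u0 x else x)
      have hpair : ∀ b : Bool, ∃ u ∈ U, u x = bif b then u0 x else x := fun b => by
        cases b
        · exact ⟨1, one_mem _, rfl⟩
        · exact ⟨u0, hu0, rfl⟩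
      have hinj : Function.Injective f := by
        have hlt : ∀ (i j : Fin 7) (b c : Bool), i.val < j.val → f (i, b) ≠ f (j, c) := by
          intro i j b c hij hf
          obtain ⟨u, hu, hb⟩ := hpair b
          obtain ⟨v, hv, hcx⟩ := hpair c
          have h1 : u x = (g ^ (j.val - i.val)) (v x) := by
            refine (g ^ i.val).injective ?_
            rw [← Equiv.Perm.mul_apply (g ^ i.val) (g ^ (j.val - i.val)), ← pow_add,
              show i.val + (j.val - i.val) = j.val by omega, hb, hcx]
            exact hf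
          obtain ⟨v', hv', h2⟩ := hmove (j.val - i.val) v hv
          rw [h2] at h1
          refine hk (j.val - i.val) (fun hd => ?_) ((hB _).2 ⟨v'⁻¹ * u, mul_mem (inv_mem hv') hu, ?_⟩)
          · have := Nat.le_of_dvd (by omega) hd
            omega
          · rw [Equiv.Perm.mul_apply, h1]; simp
        rintro ⟨i, b⟩ ⟨j, c⟩ hf
        rcases lt_trichotomy i.val j.val with h | h | h
        · exact absurd hf (hlt i j b c h)
        · obtain rfl := Fin.ext h
          have h1 := (g ^ i.val).injective hf
          cases b <;> cases c <;> simp_all [eq_comm]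
        · exact absurd hf.symm (hlt j i c b h)
      have := Fintype.card_le_of_injective f hinj
      simp only [Fintype.card_prod, Fintype.card_fin, Fintype.card_bool] at this
      omega
  intro u hu
  refine Equiv.ext fun x => ?_
  simp only [Equiv.Perm.mul_apply]
  by_cases hx : g x = x
  · by_cases hgu : g (u x) = u x
    · rw [hgu, hx]
    · have h1 := key _ hgu u hu
      have h2 : u x = x := u.injective h1
      rw [h2] at hgu
      exact absurd hx hgu
  · rw [key x hx u hu, key (g x) (fun h => hx (g.injective h)) u hu]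

/-- The form used: an element acting with period seven on an elementary group of order 64 centralises it. -/
theorem seven_trivial {Q : Type*} [Group Q] [Finite Q] (ι : Q →* Equiv.Perm X) (hι : Function.Injective ι)
    (hX : Fintype.card X ≤ 13) (P : Fin 64 → Q) (hP : Function.Injective P) (add : Fin 64 → Fin 64 → Fin 64)
    (hmul : ∀ a b, P a * P b = P (add a b)) (hadd : ∀ a b, add a b = add b a) (hone : P 0 = 1)
    (hsq : ∀ a, P a * P a = 1)
    (g : Q) (t : Fin 64 → Fin 64) (ht : ∀ a, g * P a * g⁻¹ = P (t a)) (h7 : t^[7] = id) : t = id := by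
  classical
  have hiter : ∀ (i : ℕ) a, g ^ i * P a * (g ^ i)⁻¹ = P (t^[i] a) := fun i => by
    induction i with
    | zero => intro a; simp
    | succ i ih =>
      intro a
      rw [Function.iterate_succ_apply', ← ht, ← ih, pow_succ']
      group
  set n := orderOf g with hn
  have h49 : ¬ 49 ∣ n := fun hd => by
    have h1 : n ∣ Nat.card (Equiv.Perm X) := by
      rw [hn, ← orderOf_injective ι hι g]; exact orderOf_dvd_natCard _
    rw [Nat.card_eq_fintype_card, Fintype.card_perm] at h1
    have h2 := (hd.trans h1).trans (Nat.factorial_dvd_factorial hX)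
    norm_num [Nat.factorial] at h2
  obtain ⟨j, hj7, hj⟩ : ∃ j, ¬ 7 ∣ j ∧ n ∣ 7 * j := by
    by_cases h : 7 ∣ n
    · obtain ⟨j, hj⟩ := h
      exact ⟨j, fun hd => h49 (by rw [hj]; exact Nat.mul_dvd_mul_left 7 hd), by rw [hj]⟩
    · exact ⟨n, h, dvd_mul_left _ _⟩
  let U : Subgroup (Equiv.Perm X) :=
    { carrier := Set.range fun a => ι (P a)
      one_mem' := ⟨0, by simp [hone]⟩
      mul_mem' := by
        rintro _ _ ⟨a, rfl⟩ ⟨b, rfl⟩
        exact ⟨add a b, by simp only; rw [← hmul, map_mul]⟩
      inv_mem' := by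
        rintro _ ⟨a, rfl⟩
        exact ⟨a, eq_inv_of_mul_eq_one_left (by rw [← map_mul, hsq, map_one])⟩ }
  have hU : ∀ u, u ∈ U ↔ ∃ a, ι (P a) = u := fun u => Iff.rfl
  have h64 : Nat.card U = 64 := by
    have h := Nat.card_congr (Equiv.ofInjective (fun a => ι (P a)) (hι.comp hP))
    rw [Nat.card_fin] at h
    exact h.symm
  have hcen := seven_centralises hX U ?_ h64 (g := ι (g ^ j)) ?_ ?_
  · funext a
    have h1 : t^[j] a = a := by
      refine hP (hι ?_)
      rw [← hiter j a, map_mul, map_mul, map_inv, hcen _ ((hU _).2 ⟨a, rfl⟩), mul_inv_cancel_right]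
    have h2 : t^[7] a = a := by rw [h7]; rfl
    have h3 := Function.IsPeriodicPt.gcd (f := t) (show Function.IsPeriodicPt t 7 a from h2)
      (show Function.IsPeriodicPt t j a from h1)
    rw [Nat.Coprime.gcd_eq_one (Nat.prime_seven.coprime_iff_not_dvd.2 hj7)] at h3
    exact h3
  · intro u hu v hv
    obtain ⟨a, rfl⟩ := (hU u).1 hu
    obtain ⟨b, rfl⟩ := (hU v).1 hv
    rw [← map_mul, ← map_mul, hmul, hmul, hadd]
  · rw [← map_pow, ← pow_mul, orderOf_dvd_iff_pow_eq_one.1 (show orderOf g ∣ j * 7 by rw [mul_comm]; exact hj),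
      map_one]
  · intro u hu
    obtain ⟨a, rfl⟩ := (hU u).1 hu
    exact (hU _).2 ⟨t^[j] a, by rw [← hiter j a, map_mul, map_mul, map_inv]⟩

end Cfsg.Lib.CoThreeM.End
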