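/-
The endgame: the quotient of the centraliser of `z` is the symplectic group of degree six over two elements, and the
whole group is the third Conway group.
-/
import Cfsg.Agent.CoThreeM.End.Quot
import Cfsg.Agent.CoThreeM.End.Seven
import Cfsg.Agent.AltTwelveCent.AltMain
import Cfsg.Agent.AltTwelveType.Assembly
import Cfsg.Agent.SpSixStd.CoverFacts
import Cfsg.Agent.CoThreeRecog.Final
import Cfsg.Agent.InvolCalc.ZStarApps
import Cfsg.Agent.TwoFusion.FusionTools

set_option autoImplicit false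
set_option linter.unusedSectionVars false
set_option linter.style.haveILetI false
set_option maxRecDepth 10000

namespace Cfsg.Lib.CoThreeM.End

open Subgroup Cfsg.Lib.M12Cent

universe u v

theorem x6_eight : x6 8 16 = x6 16 8 ∧ (∀ a b : Fin 64, x6 a b = x6 b a) := by decide +kernel

theorem four_facts : a6 ≠ tau ∧ dM * a6 * dM⁻¹ = tau * a6 := by decide +kernel

theorem mem_nrm {Q : Type v} [Group Q] {N : Subgroup Q} (hN : N.Normal) (g : Q) :
    g ∈ normalizer (N : Set Q) :=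
  mem_normalizer_iff.2 fun n => ⟨fun h => hN.conj_mem n h g, fun h => by
    simpa [mul_assoc] using hN.conj_mem _ h g⁻¹⟩

variable {G : Type u} [Group G] [Finite G] {S : Setup G}

namespace KQuot

variable {Q : Type v} [Group Q] [Finite Q] (R : KQuot S Q) (F : Flip S)

include R

/-- No odd normal subgroup of the quotient. -/
theorem oddCore_bot (h3 : ∃ k1 t1 k2 t2, F.Act k1 t1 ∧ F.Act k2 t2 ∧ x6 8 (t1 8) = t2 8 ∧ t1 8 ≠ 8) :
    Cfsg.oddCore Q = ⊥ := by
  obtain ⟨k1, t1, k2, t2, h1, h2, heq, -⟩ := h3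
  have hN : (Cfsg.oddCore Q).Normal := Cfsg.Lib.Components.pPrimeCore_normal' 2
  exact R.odd_trivial F Cfsg.Lib.ZStarApps.odd_card_pPrimeCore (fun m => mem_nrm hN _) (mem_nrm hN _) h1 h2
    (mem_nrm hN _) (mem_nrm hN _) heq

/-- No odd normal subgroup of the centraliser of the image of `f`. -/
theorem oddCore_cent_bot {k1 k2 : G} {t1 t2 : Fin 64 → Fin 64} (h1 : F.Act k1 t1) (h2 : F.Act k2 t2)
    (hf1 : t1 16 = 16) (hf2 : t2 16 = 16) (heq : x6 8 (t1 8) = t2 8) :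
    Cfsg.oddCore ↥(centralizer ({R.im F.w} : Set Q)) = ⊥ := by
  set H := centralizer ({R.im F.w} : Set Q) with hH
  have hN : (Cfsg.oddCore ↥H).Normal := Cfsg.Lib.Components.pPrimeCore_normal' 2
  have hnrm : ∀ g ∈ H, g ∈ normalizer (((Cfsg.oddCore ↥H).map H.subtype : Subgroup Q) : Set Q) := fun g hg =>
    mem_normalizer_iff.2 fun n => ⟨by
      rintro ⟨a, ha, rfl⟩
      exact ⟨⟨g, hg⟩ * a * ⟨g, hg⟩⁻¹, hN.conj_mem a ha _, rfl⟩, by
      rintro ⟨a, ha, e⟩
      refine ⟨⟨g, hg⟩⁻¹ * a * ⟨g, hg⟩, by simpa using hN.conj_mem a ha ⟨g, hg⟩⁻¹, ?_⟩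
      change (a : Q) = g * n * g⁻¹ at e
      show g⁻¹ * (a : Q) * g = n
      rw [e]; group⟩
  have hwK : F.w ∈ S.K := mem_K.2 F.wz
  have hk : ∀ {k : G} {t : Fin 64 → Fin 64}, F.Act k t → t 16 = 16 → R.im k ∈ H := fun {k t} h ht => by
    refine mem_centralizer_singleton_iff.2 ?_
    have := R.conj_code F h 16
    rw [ht, R.code_f F] at this
    exact mul_inv_eq_iff_eq_mul.1 this
  have h0 := R.odd_trivial F (O := (Cfsg.oddCore ↥H).map H.subtype)
    (by rw [card_map_of_injective (subtype_injective _)]; exact Cfsg.Lib.ZStarApps.odd_card_pPrimeCore)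
    (fun m => hnrm _ (mem_centralizer_singleton_iff.2 ?_)) (hnrm _ (mem_centralizer_singleton_iff.2 ?_)) h1 h2
    (hnrm _ (hk h1 hf1)) (hnrm _ (hk h2 hf2)) heq
  · exact (map_eq_bot_iff_of_injective _ (subtype_injective _)).1 h0
  · -- the model
    have hψ := F.wψ m
    rw [F.σ_eq, tw] at hψ
    have h4 : R.im F.w * R.im (S.ψ m) * (R.im F.w)⁻¹ = R.im (S.ψ m) := by
      rw [← R.im_inv hwK, ← R.im_mul hwK (ψ_mem_K S m), ← R.im_mul (mul_mem hwK (ψ_mem_K S m)) (inv_mem hwK), hψ,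
        map_mul, R.im_mul (ψ_mem_K S m) (ψ_mem_K S _)]
      cases F.δ && chi m
      · simp [pw, R.im_one]
      · simp [pw, show R.im (S.ψ tau) = 1 from R.im_z]
    exact (mul_inv_eq_iff_eq_mul.1 h4).symm
  · rw [← R.code_e F, ← R.code_f F, R.code_add, R.code_add, x6_eight.1]

theorem im_w_order : orderOf (R.im F.w) = 2 := by
  refine orderOf_eq_prime ?_ fun h => ?_
  · rw [← R.code_f F, pow_two, R.code_sq]
  · rw [← R.code_f F, ← R.code_zero F] at h
    exact absurd (R.code_inj F h) (by decide)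

/-- The quotient is the symplectic group. -/
theorem symplectic
    (hCf : Nonempty (↥(centralizer ({R.im F.w} : Set Q)) ≃* AltTwelveType.Mh))
    (hidx : ¬ 2 ∣ (centralizer ({R.im F.w} : Set Q)).index)
    (h7 : ∃ k t, F.Act k t ∧ t^[7] = id ∧ t 16 ≠ 16)
    (hO : Cfsg.oddCore Q = ⊥) : Nonempty (Q ≃* Cfsg.Lib.SpSixTwo.Sp) := by
  classical
  obtain ⟨k, t, hk, ht7, ht16⟩ := h7
  set α := R.im F.w with hα
  set C := centralizer ({α} : Set Q) with hC
  haveI : Fact (Nat.Prime 2) := ⟨Nat.prime_two⟩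
  have hord := R.im_w_order F
  have hαC : α ∈ C := mem_centralizer_singleton_iff.2 rfl
  have hz2 : IsPGroup 2 (zpowers (⟨α, hαC⟩ : C)) := IsPGroup.of_card (n := 1) (by
    rw [Nat.card_zpowers, ← orderOf_injective C.subtype (subtype_injective _) ⟨α, hαC⟩, pow_one]; exact hord)
  obtain ⟨P0, hP0⟩ := hz2.exists_le_sylow
  have hodd : ¬ 2 ∣ ((P0 : Subgroup C).map C.subtype).index := by
    rw [index_map, (MonoidHom.ker_eq_bot_iff C.subtype).2 (subtype_injective _), sup_bot_eq, range_subtype]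
    exact Nat.prime_two.not_dvd_mul P0.not_dvd_index hidx
  let P : Sylow 2 Q := (P0.2.map C.subtype).toSylow hodd
  have hαP : α ∈ (P : Subgroup Q) ⊓ centralizer ((P : Subgroup Q) : Set Q) := by
    refine ⟨⟨⟨α, hαC⟩, hP0 (mem_zpowers _), rfl⟩, mem_centralizer_iff.2 ?_⟩
    rintro _ ⟨c, -, rfl⟩
    exact mem_centralizer_singleton_iff.1 c.2
  have hfin : ∀ {X : Type} [Fintype X] [DecidableEq X] (ι : Q →* Equiv.Perm X), Function.Injective ι →
      Fintype.card X ≤ 13 → False := fun ι hι hX => ht16 (by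
    have := seven_trivial ι hι hX (R.code F) (R.code_inj F) x6 (R.code_add F) x6_eight.2 (R.code_zero F)
      (R.code_sq F) (R.im k) t (R.conj_code F hk) ht7
    rw [this]; rfl)
  rcases AltTwelveType.recognition_of_alt (fun T hT => AltTwelveCent.alt_case T hT) α hord P hαP hCf with
    ⟨⟨e⟩⟩ | ⟨⟨e⟩⟩ | ⟨E, iE, iEf, hE, ⟨e⟩⟩ | ⟨htop, -⟩
  · exact (hfin ((alternatingGroup (Fin 12)).subtype.comp e.toMonoidHom)
      ((subtype_injective _).comp e.injective) (by simp)).elim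
  · exact (hfin ((alternatingGroup (Fin 13)).subtype.comp e.toMonoidHom)
      ((subtype_injective _).comp e.injective) (by simp)).elim
  · exact ⟨e.trans (Cfsg.Lib.SpSixStd.toPSp E hE).symm⟩
  · exfalso
    rw [hO, bot_sup_eq] at htop
    have h1 : R.im k * α = α * R.im k := mem_centralizer_singleton_iff.1 (htop ▸ mem_top (R.im k))
    have h2 := R.conj_code F hk 16
    rw [R.code_f F, ← hα, h1, mul_inv_cancel_right, hα, ← R.code_f F] at h2
    exact ht16 (R.code_inj F h2).symm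

/-- The centraliser is a non-split double cover. -/
theorem double_cover (eQ : Q ≃* Cfsg.Lib.SpSixTwo.Sp) :
    Cfsg.IsNonsplitDoubleCover ↥(centralizer ({S.z} : Set G)) Cfsg.Lib.SpSixTwo.Sp ∧
      (∀ c : ↥S.K, c ∈ center ↥S.K → (c : G) = 1 ∨ (c : G) = S.z) := by
  have hZQ : center Q = ⊥ := by
    refine eq_bot_iff.2 fun c hc => mem_bot.2 ?_
    have h1 : eQ c ∈ center Cfsg.Lib.SpSixTwo.Sp := mem_center_iff.2 fun g => by
      obtain ⟨q, rfl⟩ := eQ.surjective g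
      rw [← map_mul, ← map_mul, mem_center_iff.1 hc q]
    rw [Cfsg.Lib.SpSixStd.center_sp, mem_bot] at h1
    exact eQ.map_eq_one_iff.1 h1
  have hker : R.p.ker = center ↥S.K := by
    refine le_antisymm (fun x hx => mem_center_iff.2 fun g => Subtype.ext ?_) fun x hx => ?_
    · rcases (R.ker x).1 hx with h | h
      · show (g : G) * x = x * g
        rw [h, one_mul, mul_one]
      · show (g : G) * x = x * g
        rw [h]; exact mem_K.1 g.2
    · have h1 : R.p x ∈ center Q := mem_center_iff.2 fun q => by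
        obtain ⟨y, rfl⟩ := R.surj q
        rw [← map_mul, ← map_mul, mem_center_iff.1 hx y]
      rw [hZQ, mem_bot] at h1
      exact h1
  have hcen : ∀ c : ↥S.K, c ∈ center ↥S.K → (c : G) = 1 ∨ (c : G) = S.z := fun c hc => by
    rw [← hker, MonoidHom.mem_ker] at hc
    exact (R.ker c).1 hc
  refine ⟨?_, hcen⟩
  show Cfsg.IsNonsplitDoubleCover ↥S.K _
  have hzc : (⟨S.z, z_mem_K S⟩ : ↥S.K) ∈ center ↥S.K := hker ▸ (R.ker _).2 (Or.inr rfl)
  have hzz : center ↥S.K = zpowers (⟨S.z, z_mem_K S⟩ : ↥S.K) := by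
    refine le_antisymm (fun c hc => ?_) (zpowers_le.2 hzc)
    rcases hcen c hc with h | h
    · rw [show c = 1 from Subtype.ext h]; exact one_mem _
    · rw [show c = ⟨S.z, z_mem_K S⟩ from Subtype.ext h]; exact mem_zpowers _
  have hc2 : Nat.card (center ↥S.K) = 2 := by
    rw [hzz, Nat.card_zpowers, ← orderOf_injective S.K.subtype (subtype_injective _) ⟨S.z, z_mem_K S⟩]
    exact orderOf_eq_prime (by rw [pow_two]; exact S.zz) S.z_ne
  refine ⟨hc2, ⟨((QuotientGroup.quotientMulEquivOfEq hker.symm).trans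
    (QuotientGroup.quotientKerEquivOfSurjective R.p R.surj)).trans eQ⟩, fun L hL => ?_⟩
  obtain ⟨F⟩ := S.exists_Flip
  have h2 : L.index = 2 := hc2 ▸ hL.index_eq_card
  have hmem : (⟨F.w, mem_K.2 F.wz⟩ : ↥S.K) * ⟨S.e, S.e_mem_K⟩ * (⟨F.w, mem_K.2 F.wz⟩ : ↥S.K)⁻¹ *
      (⟨S.e, S.e_mem_K⟩ : ↥S.K)⁻¹ ∈ L := by
    rw [mul_mem_iff_of_index_two h2, mul_mem_iff_of_index_two h2, mul_mem_iff_of_index_two h2, inv_mem_iff,
      inv_mem_iff]
    tauto
  rw [show (⟨F.w, mem_K.2 F.wz⟩ : ↥S.K) * ⟨S.e, S.e_mem_K⟩ * (⟨F.w, mem_K.2 F.wz⟩ : ↥S.K)⁻¹ *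
      (⟨S.e, S.e_mem_K⟩ : ↥S.K)⁻¹ = ⟨S.z, z_mem_K S⟩ from Subtype.ext (by
    show F.w * S.e * F.w⁻¹ * S.e⁻¹ = S.z
    rw [F.we, S.e_z, mul_inv_cancel_right])] at hmem
  exact S.z_ne (congrArg Subtype.val (mem_bot.1 (hL.disjoint.le_bot ⟨hzc, hmem⟩)))

end KQuot

/-- THE ENDGAME. -/
theorem endgame {Q : Type v} [Group Q] [Finite Q] (F : Flip S) (R : KQuot S Q)
    (hCf : Nonempty (↥(centralizer ({R.im F.w} : Set Q)) ≃* AltTwelveType.Mh))
    (hidx : ¬ 2 ∣ (centralizer ({R.im F.w} : Set Q)).index)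
    (h7 : ∃ k t, F.Act k t ∧ t^[7] = id ∧ t 16 ≠ 16)
    (h3 : ∃ k1 t1 k2 t2, F.Act k1 t1 ∧ F.Act k2 t2 ∧ x6 8 (t1 8) = t2 8 ∧ t1 8 ≠ 8) :
    Cfsg.Spor.IsoCo3 G := by
  have hOQ := R.oddCore_bot F h3
  obtain ⟨eQ⟩ := R.symplectic F hCf hidx h7 hOQ
  obtain ⟨hD, hcenK⟩ := R.double_cover eQ
  have hz : orderOf S.z = 2 := orderOf_eq_prime (by rw [pow_two, S.zz]) S.z_ne
  have hZ : center G = ⊥ := by
    refine eq_bot_iff.2 fun c hc => mem_bot.2 ?_
    have hcz : ∀ g, g * c = c * g := mem_center_iff.1 hc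
    rcases hcenK ⟨c, mem_K.2 (hcz S.z).symm⟩ (mem_center_iff.2 fun g => Subtype.ext (hcz g)) with h | h
    · exact h
    · exfalso
      replace h : c = S.z := h
      have h1 : S.n * c * S.n = S.v := by rw [h]; exact S.n_z
      rw [hcz S.n, mul_assoc, S.nn, mul_one, h] at h1
      exact four_facts.1 (S.ψ_inj h1).symm
  have hO : Cfsg.oddCore G = ⊥ := by
    set O := Cfsg.oddCore G with hOdef
    have hodd : Odd (Nat.card O) := Cfsg.Lib.ZStarApps.odd_card_pPrimeCore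
    have hN : O.Normal := Cfsg.Lib.Components.pPrimeCore_normal' 2
    have hcent : ∀ x ∈ O, S.z * x = x * S.z → x = 1 := fun x hx hxz => by
      haveI : (O.subgroupOf S.K).Normal := hN.subgroupOf _
      haveI : ((O.subgroupOf S.K).map R.p).Normal := Normal.map inferInstance R.p R.surj
      have hcop : (Nat.card ((O.subgroupOf S.K).map R.p)).Coprime 2 := by
        refine Nat.Coprime.coprime_dvd_left ((card_map_dvd _ _).trans ?_) hodd.coprime_two_right
        rw [← card_map_of_injective (f := S.K.subtype) (subtype_injective _), Subgroup.subgroupOf_map_subtype]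
        exact card_dvd_of_le inf_le_left
      have h1 : R.p ⟨x, mem_K.2 hxz.symm⟩ ∈ Cfsg.oddCore Q :=
        Cfsg.Lib.Components.le_pPrimeCore hcop ⟨⟨x, mem_K.2 hxz.symm⟩, hx, rfl⟩
      rw [hOQ, mem_bot] at h1
      rcases (R.ker _).1 h1 with h | h
      · exact h
      · exfalso
        replace h : x = S.z := h
        have h2 := congrArg Subtype.val (pow_card_eq_one' (x := (⟨x, hx⟩ : O)))
        change x ^ Nat.card O = 1 at h2
        obtain ⟨j, hj⟩ := hodd
        rw [h, hj, pow_succ, pow_mul, pow_two, S.zz, one_pow, one_mul] at h2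
        exact S.z_ne h2
    have hinv := inverts O (a := S.z) (fun x hx => hN.conj_mem x hx _) S.zz hcent
    have hconj : ∀ g y, y ∈ O → (g * S.z * g⁻¹) * y * (g * S.z * g⁻¹)⁻¹ = y⁻¹ := fun g y hy => by
      calc (g * S.z * g⁻¹) * y * (g * S.z * g⁻¹)⁻¹ = g * (S.z * (g⁻¹ * y * g) * S.z⁻¹) * g⁻¹ := by group
        _ = y⁻¹ := by rw [hinv _ (by simpa using hN.conj_mem y hy g⁻¹)]; group
    have hv : S.v = S.n * S.z * S.n⁻¹ := by rw [S.n_inv, S.n_z]
    have hzv : S.z * S.v = (S.ψ dM * S.n) * S.z * (S.ψ dM * S.n)⁻¹ := by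
      calc S.z * S.v = S.ψ (dM * a6 * dM⁻¹) := by rw [four_facts.2, map_mul]; rfl
        _ = S.ψ dM * S.v * (S.ψ dM)⁻¹ := by rw [map_mul, map_mul, map_inv]; rfl
        _ = _ := by rw [hv]; group
    refine eq_bot_iff.2 fun y hy => mem_bot.2 ?_
    have h1 : S.z * S.v * y * (S.z * S.v)⁻¹ = y := by
      calc S.z * S.v * y * (S.z * S.v)⁻¹ = S.z * (S.v * y * S.v⁻¹) * S.z⁻¹ := by group
        _ = S.z * y⁻¹ * S.z⁻¹ := by rw [hv, hconj _ _ hy]
        _ = y := by rw [hinv _ (inv_mem hy), inv_inv]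
    rw [hzv, hconj _ _ hy] at h1
    refine KQuot.eq_one_of_small hodd hy (n := 1) ?_
    rw [pow_one, pow_two]
    nth_rewrite 1 [← h1]
    exact inv_mul_cancel y
  exact Cfsg.Lib.CoThreeRecog.main hO hZ S.z hz hD

/-- The endgame, for a homomorphism given on the centraliser. -/
theorem endgame_hom {Q : Type v} [Group Q] [Finite Q] (F : Flip S) (p : ↥S.K →* Q) (hp : Function.Surjective p)
    (hker : ∀ x : ↥S.K, p x = 1 ↔ (x : G) = 1 ∨ (x : G) = S.z)
    (hCf : Nonempty (↥(centralizer ({p ⟨F.w, mem_K.2 F.wz⟩} : Set Q)) ≃* AltTwelveType.Mh))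
    (hidx : ¬ 2 ∣ (centralizer ({p ⟨F.w, mem_K.2 F.wz⟩} : Set Q)).index)
    (h7 : ∃ k t, F.Act k t ∧ t^[7] = id ∧ t 16 ≠ 16)
    (h3 : ∃ k1 t1 k2 t2, F.Act k1 t1 ∧ F.Act k2 t2 ∧ x6 8 (t1 8) = t2 8 ∧ t1 8 ≠ 8) :
    Cfsg.Spor.IsoCo3 G := by
  rw [← KQuot.im_mk ⟨p, hp, hker⟩ (mem_K.2 F.wz)] at hCf hidx
  exact endgame F ⟨p, hp, hker⟩ hCf hidx h7 h3

/-- In a non-abelian simple group every element is in the residual. -/
theorem mem_pResidual_of_simple [IsSimpleGroup G] (hG : ¬ IsMulCommutative G) (e : G) :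
    e ∈ Cfsg.pResidual 2 G := by
  haveI : Fact (Nat.Prime 2) := ⟨Nat.prime_two⟩
  haveI hN : (Cfsg.pResidual 2 G).Normal := Cfsg.Lib.Transfer.pResidual_normal'
  rcases IsSimpleGroup.eq_bot_or_eq_top_of_normal _ hN with h | h
  · exfalso
    obtain ⟨P⟩ := (inferInstance : Nonempty (Sylow 2 G))
    have h1 := Cfsg.Lib.Transfer.pResidual_sup_sylow P
    rw [h, bot_sup_eq] at h1
    have hp : IsPGroup 2 G := by
      have h2 := P.2
      rw [show (P : Subgroup G) = ⊤ from h1] at h2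
      exact h2.of_equiv Subgroup.topEquiv
    haveI : Nontrivial (center G) := hp.center_nontrivial
    rcases IsSimpleGroup.eq_bot_or_eq_top_of_normal (center G) inferInstance with h2 | h2
    · exact (Subgroup.nontrivial_iff_ne_bot _).1 inferInstance h2
    · exact hG ⟨⟨fun a b => mem_center_iff.1 (h2 ▸ mem_top b) a⟩⟩
  · exact h ▸ mem_top e

end Cfsg.Lib.CoThreeM.End
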